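import Cfsg.Agent.Lib.IsoD4.CB3
import Cfsg.Agent.Lib.IsoD4.Lin

/-! The field `sylow2` of `Facts`: a unipotent subgroup with a free orbit of 4096 vectors. -/

set_option autoImplicit false
set_option maxRecDepth 100000

namespace Cfsg.Agent.Lib.IsoD4.CertS2

open Matrix
open scoped MatrixGroups
open Cfsg.Agent.Lib.SchurCert.F8

/-- The generators. -/
def gs : List ℕ := [natC 1 6 1, bC 1, bC 2, bC 4]

/-- The height of a coordinate. -/
def ht (i : ℕ) : ℕ := List.getD [0, 1, 2, 3, 6, 5, 4, 3] i 0

theorem gs_uni : ∀ c ∈ gs, ∀ i j : Fin 8, (ent c i j ≠ 0 → i = j ∨ ht i < ht j) ∧ ent c i i = 1 := by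
  decide +kernel

theorem ht_le : ∀ j : Fin 8, ht j ≤ 6 := by decide +kernel

theorem ht_zero : ∀ i : Fin 8, ht i < 1 → i = 0 := by decide +kernel

theorem ht_at_zero : ht (0 : Fin 8) = 0 := by decide +kernel

theorem ht_at_one : ht (1 : Fin 8) = 1 := by decide +kernel

/-- The actions of the generators. -/
def gsF : List (ℕ → ℕ) :=
  [natF 1 6 1, triF 0 5 2 7 2 3 1, triF 0 5 2 7 2 3 2, triF 0 5 2 7 2 3 4]

/-- The start of the orbit. -/
def v0 : ℕ := 10231635

/-- The oracle for the orbit. -/
def oracle : List ℕ := [0xf, 0x19de, 0xe1e19e19d, 0x19de19de1e19de1e19e, 0xe1e19e19de1e19e19de19de1e19e19de19de1e19d, 0x19de19de1e19de1e19e19de19de1e19de1e19e19de1e19e19de19de1e19de1e19e19de1e19e19de19de1e19e, 0x209400d60219e094e19d61e09408d208de1e19da0e19e01d20818819de188e1a18809ce19d41e09ce1e19e19de18ce1818cc1e09e19de1c18e095e18941808e19de19de1e19de1e19e19de19de1e19de1e19e19de1e19e19de19de1e19d, 0x11e111e050e181981e119de1818814e18918000941019c094e18c61a0900008d41e19c611e10e1141e09619de11095e18611020900d60219e1e19d1e0908d208de1e19da0e19e01d201819de1e11809e19d1e09ce1e19e19de18e118c1e1619de11a1e1108000209400d60219e094e19d61e09408d208de1e19da0e19e01d20818819de188e1a18809ce19d41e09ce1e19e19de18ce1818cc1e09e19de1c18e095e18941808e,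 0xc8000a801101e19501e1818101080000009d21401e111de118011810418191a000061081421908019e1019941e09054e19cc000461218d0e14004000011421e1c11de115e411e10e050e081980101e08188e1891800840009c084008860a0900008d40e19c601e1e140e0960110095e610200d60219ee19d1e0908d008de0e19c20e19e01d2019dee118e18de1460a11e09dee18a00062011e111e050e181981e119de1818814e18918000941019c094e18c61a0900008d41e19c611e10e1141e09619de11095e18611020900d60219e1e19d1e0908d208de1e19da0e19e01d201819de1e11809e19d1e09ce1e19e19de18e118c1e1619de11a1e11080, 0x110110604110410004011410060004002000010122010001102120001010180101000000008081811088180818101081c118001a0011011000000e019e10ac110101e090201c011ea140010c800081000e1850e0818008d0401101e018011018091010040908009e009940e0905e09cc0004008d0e14400e1c01115e110e050e08198101e08188e189180084009c08408860a09008d40e19c601e140e096011095e610096011e11de10101a611c0e11e01511de111110c8000a801101e19501e1818101080000009d21401e111de118011810418191a000061081421908019e1019941e09054e19cc000461218d0e14004000011421e1c11de115e411e10e050e081980101e08188e1891800840009c084008860a0900008d40e19c601e1e140e0960110095e610200d60219ee19d1e0908d008de0e19c20e19e01d2019dee118e18de1460a11e09dee18a000620,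 0x1401010014000020110001210441000101081001081080819041011000001801800980000000e0190e10012c0010981c10006100410000100000020020001212001180000801801018080001081c1801a00010000e019e10001e092ca14001081000e1810e081800890401109e018011018091010000100009e009140e0105e094000850e14400e1c0151561801e01986010810980400006a010050e19c2140a01401560000110110604110410004011410060004002000010122010001102120001010180101000000008081811088180818101081c118001a0011011000000e019e10ac110101e090201c011ea140010c800081000e1850e0818008d0401101e018011018091010040908009e009940e0905e09cc0004008d0e14400e1c01115e110e050e08198101e08188e189180084009c08408860a09008d40e19c601e140e096011095e610096011e11de10101a611c0e11e01511de111110, 0x10001100010114041001011018100001011811180181090011141c181100041000101214410018010808194001100180080098e0190e1010981c06110410011100002002100112120011800818110188110181c1801a000e019e10101e0921ca140181a185a0010541a18110409816099006091e109e161c110000001401010014000020110001210441000101081001081080819041011000001801800980000000e0190e10012c0010981c10006100410000100000020020001212001180000801801018080001081c1801a00010000e019e10001e092ca14001081000e1810e081800890401109e018011018091010000100009e009140e0105e094000850e14400e1c0151561801e01986010810980400006a010050e19c2140a01401560000,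 0x140000100001000101018000100100001000100004101000800000008011800810900040001004010000010001210410010801000800194001101800800900e0190e100101814061041000100200012120000081018000108c100a0e011e01e0120010001100010114041001011018100001011811180181090011141c181100041000101214410018010808194001100180080098e0190e1010981c06110410011100002002100112120011800818110188110181c1801a000e019e10101e0921ca140181a185a0010541a18110409816099006091e109e161c11, 0x10000010000040000000008101000100441000080000000801800800900c081004100001211801801101101000001e011e10000000140000100001000101018000100100001000100004101000800000008011800810900040001004010000010001210410010801000800194001101800800900e0190e100101814061041000100200012120000081018000108c100a0e011e01e0120, 0x400000080100100100100000000010000014010000010000040000000008101000100441000080000000801800800900c081004100001211801801101101000001e011e1, 0x1000000000400000080100100100100000000010000014, 0x1]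

theorem orb_len : (levels gsF oracle [v0]).length = 4096 := by decide +kernel

theorem orb_lt : ∀ x ∈ levels gsF oracle [v0], x < 8 ^ 8 := by decide +kernel

theorem orb_nd : nodupR 24 (levels gsF oracle [v0]) = true := by decide +kernel

variable {K : Type*} [Field K]

local notation "M" => Matrix (Fin 8) (Fin 8) K

/-- Unitriangular with respect to the height. -/
def Uni (g : M) : Prop := (∀ i, g i i = 1) ∧ ∀ i j : Fin 8, g i j ≠ 0 → i = j ∨ ht i < ht j

theorem Uni.one : Uni (1 : M) := by
  refine ⟨fun i => by simp, fun i j h => ?_⟩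
  left
  by_contra hij
  exact h (Matrix.one_apply_ne hij)

theorem Uni.mul {g h : M} (hg : Uni g) (hh : Uni h) : Uni (g * h) := by
  classical
  constructor
  · intro i
    rw [Matrix.mul_apply, Finset.sum_eq_single i]
    · rw [hg.1, hh.1, one_mul]
    · intro k _ hk
      by_contra hne
      have h1 : g i k ≠ 0 := left_ne_zero_of_mul hne
      have h2 : h k i ≠ 0 := right_ne_zero_of_mul hne
      rcases hg.2 i k h1 with e | e
      · exact hk e.symm
      · rcases hh.2 k i h2 with e' | e'
        · exact hk e'
        · omega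
    · intro hi
      exact absurd (Finset.mem_univ i) hi
  · intro i j hne
    rw [Matrix.mul_apply] at hne
    obtain ⟨k, -, hk⟩ := Finset.exists_ne_zero_of_sum_ne_zero hne
    have h1 : g i k ≠ 0 := left_ne_zero_of_mul hk
    have h2 : h k j ≠ 0 := right_ne_zero_of_mul hk
    rcases hg.2 i k h1 with rfl | e
    · exact hh.2 _ _ h2
    · rcases hh.2 k j h2 with rfl | e'
      · exact Or.inr e
      · exact Or.inr (by omega)

theorem Uni.pow_ent {g : M} (hg : Uni g) (k : ℕ) (i j : Fin 8) (h : ((g - 1) ^ k) i j ≠ 0) :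
    ht i + k ≤ ht j := by
  classical
  induction k generalizing j with
  | zero =>
    have : i = j := by
      by_contra hij
      exact h (by rw [pow_zero]; exact Matrix.one_apply_ne hij)
    subst this
    simp
  | succ k ih =>
    rw [pow_succ, Matrix.mul_apply] at h
    obtain ⟨l, -, hl⟩ := Finset.exists_ne_zero_of_sum_ne_zero h
    have h1 := ih l (left_ne_zero_of_mul hl)
    have h2 : (g - 1) l j ≠ 0 := right_ne_zero_of_mul hl
    by_cases hlj : l = j
    · subst hlj
      exact absurd (by rw [Matrix.sub_apply, hg.1, Matrix.one_apply_eq, sub_self]) h2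
    · have h3 : g l j ≠ 0 := by
        rw [Matrix.sub_apply, Matrix.one_apply_ne hlj, sub_zero] at h2
        exact h2
      rcases hg.2 l j h3 with e | e
      · exact absurd e hlj
      · omega

theorem Uni.nilp {g : M} (hg : Uni g) : (g - 1) ^ 7 = 0 := by
  ext i j
  by_contra h
  have h1 := hg.pow_ent 7 i j h
  have h2 := ht_le j
  omega

theorem Uni.col0 {g : M} (hg : Uni g) : g *ᵥ bv 0 = bv 0 := by
  classical
  ext i
  rw [bv, Matrix.mulVec_single_one]
  by_cases hi : i = 0
  · subst hi
    simpa using hg.1 0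
  · rw [Pi.single_eq_of_ne hi]
    change g i 0 = 0
    by_contra h
    rcases hg.2 i 0 h with e | e
    · exact hi e
    · rw [ht_at_zero] at e
      omega

theorem Uni.col1 {g : M} (hg : Uni g) : g *ᵥ bv 1 = bv 1 + g 0 1 • bv 0 := by
  classical
  ext i
  rw [bv, bv, Matrix.mulVec_single_one]
  change g i 1 = _
  by_cases hi : i = 0
  · subst hi
    simp
  · by_cases hi1 : i = 1
    · subst hi1
      simp [hg.1]
    · simp only [Pi.add_apply, Pi.smul_apply, smul_eq_mul]
      rw [Pi.single_eq_of_ne hi1, Pi.single_eq_of_ne hi, mul_zero, add_zero]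
      by_contra h
      rcases hg.2 i 1 h with e | e
      · exact hi1 e
      · rw [ht_at_one] at e
        exact hi (ht_zero i e)

variable [CharP K 2] [Fintype K] {α : K}

theorem uni_toM (c : ℕ) (hc : c ∈ gs) (hα : α ^ 3 = α + 1) : Uni (toM α c) := by
  have h := gs_uni c hc
  constructor
  · intro i
    change emN α (ent c i i) = 1
    rw [(h i i).2, emN_one]
  · intro i j hne
    refine (h i j).1 ?_
    intro h0
    apply hne
    change emN α (ent c i j) = 0
    rw [h0, emN_zero]

theorem uni_of_mem (hα : α ^ 3 = α + 1) : ∀ x ∈ subOf α gs, Uni (x : M) := by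
  have key : ∀ x ∈ Submonoid.closure {g : GL (Fin 8) K | g ∈ Lp K ∧ ∃ c ∈ gs, (g : M) = toM α c},
      Uni (x : M) := by
    intro x hx'
    induction hx' using Submonoid.closure_induction_left with
    | one => exact Uni.one
    | mul_left x hx y hy ih =>
      obtain ⟨-, c, hc, hxc⟩ := hx
      rw [Units.val_mul, hxc]
      exact (uni_toM c hc hα).mul ih
  intro x hx
  apply key
  rw [← Subgroup.closure_toSubmonoid_of_finite]
  exact hx

theorem isP (hα : α ^ 3 = α + 1) : IsPGroup 2 (subOf α gs) := by
  rintro ⟨x, hx⟩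
  refine ⟨3, Subtype.ext (Units.ext ?_)⟩
  have h1 := (uni_of_mem hα x hx).nilp
  have h2 : ((x : M) - 1) ^ (2 ^ 3) = 0 := by
    rw [show (2 : ℕ) ^ 3 = 7 + 1 by norm_num, pow_succ, h1, zero_mul]
  rw [sub_one_pow_two_pow, sub_eq_zero] at h2
  change (x : M) ^ (2 ^ 3) = 1
  exact h2

theorem lower (hα : α ^ 3 = α + 1) : 4096 ≤ Nat.card (subOf α gs) := by
  have hsub : ∀ c ∈ gs, InLp α c → ∃ g ∈ subOf α gs, (g : M) = toM α c := by
    rintro c hc ⟨g, hg, hg'⟩
    exact ⟨g, Subgroup.subset_closure ⟨hg, c, hc, hg'⟩, hg'⟩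
  have hg : ∀ f ∈ gsF, ∃ g ∈ subOf α gs, ∀ v, toV α (f v) = (g : M) *ᵥ toV α v := by
    intro f hf
    simp only [gsF, List.mem_cons, List.not_mem_nil, or_false] at hf
    rcases hf with rfl | rfl | rfl | rfl
    · obtain ⟨g, hg, e⟩ := hsub (natC 1 6 1) (by simp [gs]) (inLp_natC1 hα)
      exact ⟨g, hg, fun v => by rw [e]; exact toV_natF hα 1 6 rfl rfl (by norm_num) v⟩
    · obtain ⟨g, hg, e⟩ := hsub (bC 1) (by simp [gs]) (inLp_bC hα 1)
      exact ⟨g, hg, fun v => by
        rw [e]; exact toV_triF hα 0 5 2 7 2 3 rfl rfl rfl rfl rfl rfl (by norm_num) v⟩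
    · obtain ⟨g, hg, e⟩ := hsub (bC 2) (by simp [gs]) (inLp_bC hα 2)
      exact ⟨g, hg, fun v => by
        rw [e]; exact toV_triF hα 0 5 2 7 2 3 rfl rfl rfl rfl rfl rfl (by norm_num) v⟩
    · obtain ⟨g, hg, e⟩ := hsub (bC 4) (by simp [gs]) (inLp_bC hα 4)
      exact ⟨g, hg, fun v => by
        rw [e]; exact toV_triF hα 0 5 2 7 2 3 rfl rfl rfl rfl rfl rfl (by norm_num) v⟩
  have h1 := orbit_bound hα (subOf α gs) hg v0 oracle orb_len orb_lt orb_nd
  refine h1.trans ?_
  let f : subOf α gs → (Fin 8 → K) := fun g => ((g : GL (Fin 8) K) : M) *ᵥ toV α v0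
  have e : {w | ∃ g ∈ subOf α gs, (g : M) *ᵥ toV α v0 = w} = f '' Set.univ := by
    ext w
    constructor
    · rintro ⟨g, hg, rfl⟩
      exact ⟨⟨g, hg⟩, Set.mem_univ _, rfl⟩
    · rintro ⟨⟨g, hg⟩, -, rfl⟩
      exact ⟨g, hg, rfl⟩
  rw [e]
  refine (Set.ncard_image_le (Set.toFinite _)).trans ?_
  rw [Set.ncard_univ]

theorem sylow2 (hα : α ^ 3 = α + 1) (card : Nat.card (Lp K) = 2 ^ 12 * 3 ^ 4 * 7 ^ 2 * 13) :
    ∃ P : Subgroup (GL (Fin 8) K), P ≤ Lp K ∧ Nat.card P = 2 ^ 12 ∧
    ∀ x ∈ P, ((x : Matrix (Fin 8) (Fin 8) K) - 1) ^ 7 = 0 ∧ (x : Matrix (Fin 8) (Fin 8) K) *ᵥ bv 0 = bv 0 ∧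
      ∃ c : K, (x : Matrix (Fin 8) (Fin 8) K) *ᵥ bv 1 = bv 1 + c • bv 0 := by
  refine ⟨subOf α gs, subOf_le gs, ?_, fun x hx => ?_⟩
  · obtain ⟨n, hn⟩ := (isP hα).exists_card_eq
    have h1 : Nat.card (subOf α gs) ∣ Nat.card (Lp K) := Subgroup.card_dvd_of_le (subOf_le gs)
    rw [hn, card] at h1
    have h2 : 2 ^ n ∣ 2 ^ 12 := by
      have hc : Nat.Coprime (2 ^ n) (3 ^ 4 * 7 ^ 2 * 13) := by
        apply Nat.Coprime.pow_left
        norm_num
      have h3 : 2 ^ n ∣ 2 ^ 12 * (3 ^ 4 * 7 ^ 2 * 13) := by
        have e : 2 ^ 12 * 3 ^ 4 * 7 ^ 2 * 13 = 2 ^ 12 * (3 ^ 4 * 7 ^ 2 * 13) := by norm_num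
        rwa [e] at h1
      exact hc.dvd_of_dvd_mul_right h3
    have h4 : n ≤ 12 := (Nat.pow_dvd_pow_iff_le_right (by norm_num)).1 h2
    have h5 := lower hα
    rw [hn] at h5
    have h6 : 12 ≤ n := by
      by_contra hlt
      have : n < 12 := by omega
      have h7 : 2 ^ n < 2 ^ 12 := Nat.pow_lt_pow_right (by norm_num) this
      have h8 : (2 : ℕ) ^ 12 = 4096 := by norm_num
      omega
    rw [hn, le_antisymm h4 h6]
  · have hu := uni_of_mem hα x hx
    exact ⟨hu.nilp, hu.col0, _, hu.col1⟩

end Cfsg.Agent.Lib.IsoD4.CertS2
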